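/-
helper908, for helper422 / helper116 (rows of S4857 and its sisters, the count of the family `SL_n`).

`no_dual`: `K` a finite field with `q` elements, `p` an odd prime, `d` the order of `q` modulo `p`,
`d` odd.  A `d × d` matrix `A ≠ 1` with `A ^ p = 1` is not similar to the transpose of its inverse.
-/
import Mathlib

open Matrix Polynomial

namespace Cfsg.Agent.H908.RatB

variable {K : Type*} [Field K] [Fintype K]

/-- the roots of a polynomial over `K` are closed under `z ↦ z ^ q` -/
theorem aeval_pow_card {L : Type*} [Field L] [Algebra K L] (f : K[X]) {z : L}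
    (h : aeval z f = 0) : aeval (z ^ Fintype.card K) f = 0 := by
  have h1 : aeval z (expand K (Fintype.card K) f) = aeval (z ^ Fintype.card K) f := by
    rw [Polynomial.expand_aeval]
  rw [← h1, FiniteField.expand_card, map_pow, h, zero_pow Fintype.card_ne_zero]

theorem no_dual {p d : ℕ} [Fact p.Prime] (h2 : p ≠ 2) (hd : Odd d)
    (hord : orderOf ((Fintype.card K : ℕ) : ZMod p) = d) {A C B : Matrix (Fin d) (Fin d) K}
    (hA : A ^ p = 1) (hA1 : A ≠ 1) (hC : A * C = 1) (hB : IsUnit B)
    (h : B * A = C.transpose * B) : False := by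
  classical
  have hp : p.Prime := Fact.out
  set q : ℕ := Fintype.card K with hq
  have hd0 : 0 < d := hd.pos
  -- `q` is a unit modulo `p`
  have hqu : IsUnit ((q : ℕ) : ZMod p) := by
    have h1 : ((q : ℕ) : ZMod p) ^ d = 1 := by rw [← hord]; exact pow_orderOf_eq_one _
    exact IsUnit.of_pow_eq_one h1 hd0.ne'
  have hpq : ¬ p ∣ q := by
    intro hdv
    rw [(ZMod.natCast_eq_zero_iff q p).2 hdv] at hqu
    exact not_isUnit_zero hqu
  let L := AlgebraicClosure K
  let A' : Matrix (Fin d) (Fin d) L := A.map (algebraMap K L)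
  let C' : Matrix (Fin d) (Fin d) L := C.map (algebraMap K L)
  -- `p ≠ 0` in `L`
  have hpK : (p : K) ≠ 0 := by
    intro h0
    obtain ⟨r, hr⟩ := CharP.exists K
    have hrp : r ∣ p := (CharP.cast_eq_zero_iff K r p).1 h0
    obtain ⟨n, hrprime, hcard⟩ := FiniteField.card K r
    have : r = p := ((Nat.dvd_prime hp).1 hrp).resolve_left hrprime.ne_one
    subst this
    exact hpq (by rw [hq, hcard]; exact dvd_pow_self _ n.ne_zero)
  have hpL : (p : L) ≠ 0 := by
    intro h0
    apply hpK
    have : algebraMap K L (p : K) = 0 := by rw [map_natCast]; exact h0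
    exact (map_eq_zero_iff _ (algebraMap K L).injective).1 this
  have : Nonempty (Fin d) := ⟨⟨0, hd0⟩⟩
  have hA' : A' ^ p = 1 := by
    have := congrArg (fun M : Matrix (Fin d) (Fin d) K => (algebraMap K L).mapMatrix M) hA
    simpa [map_pow] using this
  have hA'1 : A' ≠ 1 := by
    intro h1
    apply hA1
    have hinj : Function.Injective
        (fun M : Matrix (Fin d) (Fin d) K => M.map (algebraMap K L)) :=
      Matrix.map_injective (algebraMap K L).injective
    apply hinj
    change A' = (1 : Matrix (Fin d) (Fin d) K).map (algebraMap K L)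
    rw [h1]
    exact (map_one ((algebraMap K L).mapMatrix (m := Fin d))).symm
  have hC' : A' * C' = 1 := by
    have := congrArg (fun M : Matrix (Fin d) (Fin d) K => (algebraMap K L).mapMatrix M) hC
    simpa [map_mul] using this
  have hC'' : C' * A' = 1 := mul_eq_one_comm.1 hC'
  -- the eigenvalue
  obtain ⟨l, hl, hl1, hlp⟩ : ∃ l : L, l ∈ spectrum L A' ∧ l ≠ 1 ∧ l ^ p = 1 := by
    let Φ : L[X] := ∑ i ∈ Finset.range p, X ^ i
    have hΦ : Φ * (X - 1) = X ^ p - 1 := by
      simpa [Φ] using geom_sum_mul (X : L[X]) p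
    have hz : aeval A' Φ * (A' - 1) = 0 := by
      have := congrArg (aeval A') hΦ
      simpa [hA'] using this
    have hnu : ¬ IsUnit (aeval A' Φ) := by
      intro hu
      apply hA'1
      have := hu.mul_right_eq_zero.1 hz
      exact sub_eq_zero.1 this
    have h0 : (0 : L) ∈ spectrum L (aeval A' Φ) := by
      rwa [spectrum.zero_mem_iff]
    rw [spectrum.map_polynomial_aeval_of_nonempty A' Φ
      (spectrum.nonempty_of_isAlgClosed_of_finiteDimensional L A')] at h0
    obtain ⟨l, hl, hl0⟩ := h0
    refine ⟨l, hl, ?_, ?_⟩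
    · rintro rfl
      apply hpL
      simpa [Φ, eval_finsetSum] using hl0
    · have := congrArg (eval l) hΦ
      simp only [eval_mul, hl0, zero_mul, eval_sub, eval_pow, eval_X, eval_one] at this
      exact (sub_eq_zero.1 this.symm)
  -- roots
  have hroot : ∀ (M : Matrix (Fin d) (Fin d) K) (z : L),
      z ∈ spectrum L (M.map (algebraMap K L)) ↔ aeval z M.charpoly = 0 := by
    intro M z
    rw [Matrix.mem_spectrum_iff_isRoot_charpoly, Matrix.charpoly_map, IsRoot.def, eval_map_algebraMap]
  have hchar : C.charpoly = A.charpoly := by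
    rw [← Matrix.charpoly_transpose C]
    obtain ⟨b, rfl⟩ := hB
    have h3 : C.transpose = (b : Matrix (Fin d) (Fin d) K) * A *
        ((b⁻¹ : (Matrix (Fin d) (Fin d) K)ˣ) : Matrix (Fin d) (Fin d) K) := by
      rw [h, mul_assoc, Units.mul_inv, mul_one]
    rw [h3, Matrix.coe_units_inv]
    exact Matrix.charpoly_units_conj b A
  have hfro : ∀ z : L, z ∈ spectrum L A' → z ^ q ∈ spectrum L A' := by
    intro z hz
    rw [hroot] at hz ⊢
    exact aeval_pow_card _ hz
  have hinv : ∀ z : L, z ∈ spectrum L A' → z⁻¹ ∈ spectrum L A' := by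
    intro z hz
    let a : (Matrix (Fin d) (Fin d) L)ˣ := ⟨A', C', hC', hC''⟩
    have h4 : z⁻¹ ∈ spectrum L C' := by
      have := (spectrum.inv₀_mem_inv_iff (R := L) (r := z) (a := a)).2 hz
      exact this
    rw [hroot, hchar, ← hroot] at h4
    exact h4
  -- the order of `l`
  have hlord : orderOf l = p := orderOf_eq_prime hlp hl1
  have hmod : ∀ a b : ℕ, l ^ a = l ^ b ↔ (a : ZMod p) = (b : ZMod p) := by
    intro a b
    have hlu : orderOf (Units.ofPowEqOne l p hlp hp.ne_zero) = p := by
      rw [← orderOf_units, Units.val_ofPowEqOne, hlord]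
    have h0 : l ^ a = l ^ b ↔ Units.ofPowEqOne l p hlp hp.ne_zero ^ a =
        Units.ofPowEqOne l p hlp hp.ne_zero ^ b := by
      rw [Units.ext_iff]
      simp
    rw [h0, pow_eq_pow_iff_modEq, hlu, ZMod.natCast_eq_natCast_iff]
  -- the element `-q`
  set u : ZMod p := -((q : ℕ) : ZMod p) with hu
  have huord : orderOf u = 2 * d := by
    have h5 : u = (-1) * ((q : ℕ) : ZMod p) := by rw [hu]; ring
    rw [h5, (Commute.all (-1 : ZMod p) _).orderOf_mul_eq_mul_orderOf_of_coprime, hord]
    · congr 1
      rw [orderOf_neg_one, ringChar.eq (ZMod p) p, if_neg h2]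
    · rw [hord, orderOf_neg_one, ringChar.eq (ZMod p) p, if_neg h2]
      exact (Nat.coprime_two_left (n := d)).2 hd
  have hmem : ∀ i : ℕ, l ^ ((u ^ i).val) ∈ spectrum L A' := by
    intro i
    induction i with
    | zero =>
      have h6 : l ^ ((u ^ 0).val) = l ^ 1 := by
        rw [hmod]; simp
      rw [h6, pow_one]
      exact hl
    | succ i ih =>
      have h7 := hinv _ (hfro _ ih)
      have h8 : l ^ ((u ^ (i + 1)).val) = ((l ^ ((u ^ i).val)) ^ q)⁻¹ := by
        apply eq_inv_of_mul_eq_one_left
        rw [← pow_mul, ← pow_add]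
        have h9 : l ^ ((u ^ (i + 1)).val + (u ^ i).val * q) = l ^ 0 := by
          rw [hmod]
          push_cast
          rw [ZMod.natCast_zmod_val, ZMod.natCast_zmod_val, hu]
          ring
        rw [h9, pow_zero]
      rw [h8]
      exact h7
  -- counting
  let S : Finset L := (A.charpoly.map (algebraMap K L)).roots.toFinset
  have hne : A.charpoly.map (algebraMap K L) ≠ 0 :=
    ((Matrix.charpoly_monic A).map _).ne_zero
  have hS : S.card ≤ d := by
    refine (Multiset.toFinset_card_le _).trans ((Polynomial.card_roots' _).trans ?_)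
    rw [Polynomial.natDegree_map, Matrix.charpoly_natDegree_eq_dim, Fintype.card_fin]
  have hle : (Finset.range (2 * d)).card ≤ S.card := by
    refine Finset.card_le_card_of_injOn (fun i => l ^ ((u ^ i).val)) ?_ ?_
    · intro i _
      have := (hroot A _).1 (hmem i)
      simp only [S, Finset.mem_coe, Multiset.mem_toFinset, Polynomial.mem_roots hne, IsRoot.def,
        eval_map_algebraMap]
      exact this
    · intro i hi j hj hij
      simp only [Finset.coe_range, Set.mem_Iio] at hi hj
      have h10 := (hmod _ _).1 hij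
      rw [ZMod.natCast_zmod_val, ZMod.natCast_zmod_val] at h10
      exact pow_injOn_Iio_orderOf (by simpa [huord] using hi) (by simpa [huord] using hj) h10
  rw [Finset.card_range] at hle
  omega

end Cfsg.Agent.H908.RatB
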